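import Mathlib.RingTheory.Kaehler.Basic
import Mathlib.RingTheory.MvPolynomial.Expand
import Mathlib.Algebra.MvPolynomial.PDeriv
import Mathlib.Algebra.CharP.Lemmas
import Mathlib.Data.Nat.Choose.Sum

/-!
# The inverse Cartier map in degree one
-/

universe u

noncomputable section

namespace Groth.Agent.Lib.CartierOne45

open KaehlerDifferential

variable (p : ℕ) [hp : Fact p.Prime] (A B : Type u) [CommRing A] [CommRing B] [Algebra A B]

section binom

variable {R C M : Type*} [CommRing R] [CommRing C] [Algebra R C] [AddCommGroup M] [Module C M]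
  [Module R M]

/-- `(g + h)^(p-1) d(g + h) - g^(p-1) dg - h^(p-1) dh` is exact. -/
theorem binom_exact (δ : Derivation R C M) (g h : C) :
    ∃ q : C, (g + h) ^ (p - 1) • δ (g + h) - g ^ (p - 1) • δ g - h ^ (p - 1) • δ h = δ q := by
  let P := MvPolynomial (Fin 2) ℤ
  let X : P := MvPolynomial.X 0
  let Y : P := MvPolynomial.X 1
  obtain ⟨r, hr⟩ := (Commute.all X Y).exists_add_pow_prime_eq hp.out
  let Q : P := X * Y * r
  have hQ : (X + Y) ^ p = X ^ p + Y ^ p + (p : P) * Q := by rw [hr]; ring
  let v : Fin 2 → C := ![g, h]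
  let ev : P →+* C := (MvPolynomial.aeval v : P →ₐ[ℤ] C).toRingHom
  have hd : ∀ F : P, δ (ev F) =
      ev (MvPolynomial.pderiv 0 F) • δ g + ev (MvPolynomial.pderiv 1 F) • δ h := by
    intro F
    induction F using MvPolynomial.induction_on with
    | C a => simp [ev]
    | add F G hF hG => simp only [map_add, hF, hG, add_smul]; abel
    | mul_X F i hF =>
      rw [map_mul ev, Derivation.leibniz δ, hF, Derivation.leibniz, Derivation.leibniz]
      simp only [map_add, map_mul, smul_eq_mul]
      have e0 : ∀ j : Fin 2, ev (MvPolynomial.X j) = v j := fun j => MvPolynomial.aeval_X v j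
      obtain rfl | rfl : i = 0 ∨ i = 1 := by omega
      · rw [e0, MvPolynomial.pderiv_X_self, MvPolynomial.pderiv_X_of_ne (show (0 : Fin 2) ≠ 1 by decide)]
        simp only [map_one, map_zero, v, Matrix.cons_val_zero, mul_one, mul_zero, zero_add, add_smul,
          mul_smul, smul_add]
        abel
      · rw [e0, MvPolynomial.pderiv_X_self, MvPolynomial.pderiv_X_of_ne (show (1 : Fin 2) ≠ 0 by decide)]
        simp only [map_one, map_zero, v, Matrix.cons_val_one, Matrix.cons_val_zero, mul_one, mul_zero, zero_add, add_smul,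
          mul_smul, smul_add]
        abel
  have hp1 : ∀ (i : Fin 2) (F : P), MvPolynomial.pderiv i (F ^ p) =
      (p : P) * (F ^ (p - 1) * MvPolynomial.pderiv i F) := fun i F => by
    rw [Derivation.leibniz_pow, nsmul_eq_mul, smul_eq_mul]
  have hp0 : (p : P) ≠ 0 := Nat.cast_ne_zero.2 hp.out.ne_zero
  have h0 : MvPolynomial.pderiv 0 Q = (X + Y) ^ (p - 1) - X ^ (p - 1) := by
    apply mul_left_cancel₀ hp0
    have := congrArg (MvPolynomial.pderiv (0 : Fin 2)) hQ
    rw [map_add, map_add, hp1, hp1, hp1, Derivation.leibniz, Derivation.map_natCast, map_add,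
      show MvPolynomial.pderiv 0 X = (1 : P) from MvPolynomial.pderiv_X_self 0,
      show MvPolynomial.pderiv 0 Y = (0 : P) from MvPolynomial.pderiv_X_of_ne (by decide)] at this
    simp only [smul_eq_mul] at this
    linear_combination -this
  have h1 : MvPolynomial.pderiv 1 Q = (X + Y) ^ (p - 1) - Y ^ (p - 1) := by
    apply mul_left_cancel₀ hp0
    have := congrArg (MvPolynomial.pderiv (1 : Fin 2)) hQ
    rw [map_add, map_add, hp1, hp1, hp1, Derivation.leibniz, Derivation.map_natCast, map_add,
      show MvPolynomial.pderiv 1 Y = (1 : P) from MvPolynomial.pderiv_X_self 1,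
      show MvPolynomial.pderiv 1 X = (0 : P) from MvPolynomial.pderiv_X_of_ne (by decide)] at this
    simp only [smul_eq_mul] at this
    linear_combination -this
  refine ⟨ev Q, ?_⟩
  rw [hd, h0, h1]
  have hX : ev X = g := MvPolynomial.aeval_X v 0
  have hY : ev Y = h := MvPolynomial.aeval_X v 1
  simp only [map_sub, map_pow, map_add, hX, hY, smul_add, sub_smul]
  abel

end binom

/-- One-forms, with functions acting through the Frobenius. -/
def FΩ (_p : ℕ) : Type u := Ω[B⁄A]

instance : AddCommGroup (FΩ A B p) := inferInstanceAs (AddCommGroup (Ω[B⁄A]))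

/-- The identity, into `FΩ`. -/
def toF : Ω[B⁄A] ≃+ FΩ A B p := AddEquiv.refl _

variable [CharP A p]

include A in
theorem p_eq_zero : (p : B) = 0 := by
  rw [← map_natCast (algebraMap A B), CharP.cast_eq_zero, map_zero]

/-- The Frobenius of `B`. -/
def frob : B →+* B where
  toFun b := b ^ p
  map_one' := one_pow p
  map_mul' a b := mul_pow a b p
  map_zero' := zero_pow hp.out.ne_zero
  map_add' a b := by
    obtain ⟨r, hr⟩ := (Commute.all a b).exists_add_pow_prime_eq hp.out
    rw [hr, p_eq_zero p A B]; ring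

instance : Module B (FΩ A B p) :=
  letI : Module B (FΩ A B p) := inferInstanceAs (Module B (Ω[B⁄A]))
  Module.compHom (FΩ A B p) (frob p A B)

theorem smul_toF (f : B) (ω : Ω[B⁄A]) : f • toF p A B ω = toF p A B (f ^ p • ω) := rfl

instance : Module A (FΩ A B p) := Module.compHom (FΩ A B p) (algebraMap A B)

instance : IsScalarTower A B (FΩ A B p) := ⟨fun a b m => by
  rw [Algebra.smul_def, mul_smul]; rfl⟩

theorem D_pow_p (f : B) : D A B (f ^ p) = 0 := by
  rw [Derivation.leibniz_pow, ← Nat.cast_smul_eq_nsmul B, p_eq_zero p A B, zero_smul]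

/-- Exact forms. -/
def exactF : Submodule B (FΩ A B p) where
  carrier := Set.range fun g => toF p A B (D A B g)
  zero_mem' := ⟨0, by simp⟩
  add_mem' := by rintro _ _ ⟨g, rfl⟩ ⟨h, rfl⟩; exact ⟨g + h, by simp⟩
  smul_mem' := by
    rintro f _ ⟨g, rfl⟩
    refine ⟨f ^ p * g, ?_⟩
    simp only [smul_toF, Derivation.leibniz, D_pow_p, smul_zero, add_zero]

/-- Forms modulo exact forms. -/
abbrev Q : Type u := FΩ A B p ⧸ exactF p A B

/-- The class of a form. -/
def cl : Ω[B⁄A] →+ Q p A B := (exactF p A B).mkQ.toAddMonoidHom.comp (toF p A B).toAddMonoidHom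

theorem smul_cl (f : B) (ω : Ω[B⁄A]) : f • cl p A B ω = cl p A B (f ^ p • ω) := rfl

theorem cl_surjective : Function.Surjective (cl p A B) :=
  (Submodule.mkQ_surjective _).comp (toF p A B).surjective

theorem cl_eq_zero {ω : Ω[B⁄A]} : cl p A B ω = 0 ↔ ∃ g, D A B g = ω := by
  refine (Submodule.Quotient.mk_eq_zero _).trans ⟨fun ⟨g, hg⟩ => ⟨g, hg⟩, fun ⟨g, hg⟩ => ⟨g, ?_⟩⟩
  exact congrArg (toF p A B) hg

theorem cl_D (g : B) : cl p A B (D A B g) = 0 := (cl_eq_zero p A B).2 ⟨g, rfl⟩

/-- `g ↦ g^(p-1) dg`. -/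
def D0 : Derivation A B (Q p A B) where
  toFun g := cl p A B (g ^ (p - 1) • D A B g)
  map_add' g h := by
    obtain ⟨q, hq⟩ := binom_exact p (D A B) g h
    rw [← map_add, ← sub_eq_zero, ← map_sub, cl_eq_zero]
    exact ⟨q, by rw [← hq]; abel⟩
  map_smul' a g := by
    rw [RingHom.id_apply, ← algebraMap_smul B a (cl p A B _), smul_cl]
    congr 1
    rw [Derivation.map_smul, ← algebraMap_smul B a (D A B g), Algebra.smul_def, mul_pow, smul_smul,
      smul_smul]
    congr 1
    rw [← Nat.sub_add_cancel hp.out.one_le, pow_succ, Nat.add_sub_cancel]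
    ring
  map_one_eq_zero' := by
    show cl p A B (1 ^ (p - 1) • D A B 1) = 0
    simp
  leibniz' g h := by
    show cl p A B _ = g • cl p A B _ + h • cl p A B _
    rw [smul_cl, smul_cl, ← map_add, Derivation.leibniz]
    refine congrArg (cl p A B) ?_
    show (g * h) ^ (p - 1) • (g • D A B h + h • D A B g) =
      g ^ p • (h ^ (p - 1) • D A B h) + h ^ p • (g ^ (p - 1) • D A B g)
    have e : ∀ z : B, z ^ p = z ^ (p - 1) * z := fun z => by
      rw [← pow_succ, Nat.sub_add_cancel hp.out.one_le]
    rw [smul_add, smul_smul, smul_smul, smul_smul, smul_smul, mul_pow, e g, e h]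
    congr 2 <;> ring

/-- The inverse Cartier map. -/
def T : Ω[B⁄A] →ₗ[B] Q p A B := (D0 p A B).liftKaehlerDifferential

theorem T_D (g : B) : T p A B (D A B g) = cl p A B (g ^ (p - 1) • D A B g) :=
  (D0 p A B).liftKaehlerDifferential_comp_D g

theorem T_smul_D (f g : B) :
    T p A B (f • D A B g) = cl p A B ((f ^ p * g ^ (p - 1)) • D A B g) := by
  rw [map_smul, T_D, smul_cl, smul_smul]

/-- `Ω` is additively generated by the `f dg`. -/
theorem induction_smul_D {motive : Ω[B⁄A] → Prop} (zero : motive 0)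
    (smul : ∀ f g : B, motive (f • D A B g)) (add : ∀ a b, motive a → motive b → motive (a + b))
    (ω : Ω[B⁄A]) : motive ω := by
  have h : ω ∈ Submodule.span B (Set.range (D A B)) := by
    rw [span_range_derivation]; trivial
  induction h using Submodule.span_induction with
  | mem x hx => obtain ⟨g, rfl⟩ := hx; simpa using smul 1 g
  | zero => exact zero
  | add a b _ _ ha hb => exact add a b ha hb
  | smul c a ha iha =>
    clear iha
    induction ha using Submodule.span_induction generalizing c with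
    | mem x hx => obtain ⟨g, rfl⟩ := hx; exact smul c g
    | zero => simpa using zero
    | add a b _ _ ha hb => rw [smul_add]; exact add _ _ (ha c) (hb c)
    | smul d a _ ih => rw [smul_smul]; exact ih (c * d)

end Groth.Agent.Lib.CartierOne45
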