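import Groth.Agent.Lib.RelFrobEtale
import Mathlib.FieldTheory.Finite.Basic
import Mathlib.RingTheory.Derivation.Basic
import Mathlib.Data.Nat.Prime.Factorial

/-!
# Closed one-forms in coordinates
-/

universe u v

namespace Groth.Agent.Lib.CartierOne45

variable {A : Type u} {B : Type v} [CommRing A] [CommRing B] [Algebra A B]
  {n : ℕ} (x : Fin n → B) (del : Fin n → Derivation A B B)
  {p : ℕ}

/-- The data of a chart. -/
structure Coord (p : ℕ) : Prop where
  p_eq : (p : B) = 0
  del_x : ∀ i j, del i (x j) = if i = j then 1 else 0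
  comm : ∀ i j b, del i (del j b) = del j (del i b)
  spanning : ∀ b, b ∈ AddSubgroup.closure
    (Set.range fun cα : B × (Fin n → ℕ) => cα.1 ^ p * ∏ j, x j ^ cα.2 j)

variable {x del}

theorem Coord.del_pow (h : Coord x del p) (i : Fin n) (c : B) : del i (c ^ p) = 0 := by
  rw [Derivation.leibniz_pow, nsmul_eq_mul, h.p_eq, zero_mul]

theorem Coord.del_rest (h : Coord x del p) (i : Fin n) (c : B) (α : Fin n → ℕ) :
    del i (c ^ p * ∏ j ∈ Finset.univ.erase i, x j ^ α j) = 0 := by
  have hprod : ∀ s : Finset (Fin n), i ∉ s → del i (∏ j ∈ s, x j ^ α j) = 0 := by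
    intro s
    induction s using Finset.induction_on with
    | empty => simp
    | insert a s ha ih =>
      intro hi
      rw [Finset.mem_insert, not_or] at hi
      rw [Finset.prod_insert ha, Derivation.leibniz, ih hi.2, Derivation.leibniz_pow, h.del_x,
        if_neg hi.1]
      simp
  rw [Derivation.leibniz, hprod _ (Finset.notMem_erase i _), h.del_pow]
  simp

theorem split_mono (i : Fin n) (c : B) (α : Fin n → ℕ) :
    c ^ p * ∏ j, x j ^ α j = (c ^ p * ∏ j ∈ Finset.univ.erase i, x j ^ α j) * x i ^ α i := by
  rw [mul_assoc, Finset.prod_erase_mul _ _ (Finset.mem_univ i)]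

theorem iterate_mul (i : Fin n) {r : B} (hr : del i r = 0) (b : B) (m : ℕ) :
    (del i)^[m] (r * b) = r * (del i)^[m] b := by
  induction m with
  | zero => rfl
  | succ m ih => rw [Function.iterate_succ_apply', ih, Function.iterate_succ_apply',
      Derivation.leibniz, hr]; simp

theorem Coord.iterate_pow (h : Coord x del p) (i : Fin n) (a m : ℕ) :
    (del i)^[m] (x i ^ a) = (a.descFactorial m : B) * x i ^ (a - m) := by
  induction m with
  | zero => simp
  | succ m ih =>
    rw [Function.iterate_succ_apply', ih, Derivation.leibniz, Derivation.map_natCast,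
      Derivation.leibniz_pow, h.del_x, if_pos rfl, Nat.descFactorial_succ, Nat.sub_sub]
    push_cast
    simp only [smul_eq_mul, mul_zero, add_zero, mul_one, nsmul_eq_mul]
    ring

theorem Coord.euler (h : Coord x del p) (i : Fin n) (c : B) (α : Fin n → ℕ) :
    x i * del i (c ^ p * ∏ j, x j ^ α j) = (α i : B) * (c ^ p * ∏ j, x j ^ α j) := by
  rw [split_mono i c α, Derivation.leibniz, h.del_rest, Derivation.leibniz_pow, h.del_x, if_pos rfl]
  rcases Nat.eq_zero_or_pos (α i) with h0 | h0
  · simp [h0]
  · simp only [smul_eq_mul, mul_zero, add_zero, mul_one, nsmul_eq_mul]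
    rw [← Nat.succ_pred_eq_of_pos h0, pow_succ]
    simp only [Nat.pred_eq_sub_one, Nat.succ_eq_add_one, Nat.add_sub_cancel]
    ring

variable [Fact p.Prime]

theorem Coord.iterate_p (h : Coord x del p) (i : Fin n) (b : B) : (del i)^[p] b = 0 := by
  have hadd : ∀ (m : ℕ) (y z : B), (del i)^[m] (y + z) = (del i)^[m] y + (del i)^[m] z := by
    intro m y z
    induction m with
    | zero => rfl
    | succ m ih => rw [Function.iterate_succ_apply', ih, map_add, Function.iterate_succ_apply',
        Function.iterate_succ_apply']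
  have hneg : ∀ (m : ℕ) (y : B), (del i)^[m] (-y) = -(del i)^[m] y := by
    intro m y
    induction m with
    | zero => rfl
    | succ m ih => rw [Function.iterate_succ_apply', ih, map_neg, Function.iterate_succ_apply']
  refine AddSubgroup.closure_induction (p := fun y _ => (del i)^[p] y = 0) ?_ ?_ ?_ ?_ (h.spanning b)
  · rintro _ ⟨⟨c, α⟩, rfl⟩
    show (del i)^[p] (c ^ p * ∏ j, x j ^ α j) = 0
    rw [split_mono i c α, iterate_mul i (h.del_rest i c α), h.iterate_pow,
      Nat.descFactorial_eq_factorial_mul_choose]
    obtain ⟨q, hq⟩ := Nat.dvd_factorial (Fact.out : p.Prime).pos le_rfl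
    rw [hq]
    push_cast
    rw [h.p_eq]
    ring
  · exact Function.iterate_fixed (map_zero _) p
  · intro y z _ _ hy hz
    rw [hadd, hy, hz, add_zero]
  · intro y _ hy
    rw [hneg, hy, neg_zero]

theorem natCast_pow_eq_one (hp : (p : B) = 0) {m : ℕ} (hm : ¬ p ∣ m) : (m : B) ^ (p - 1) = 1 := by
  have h1 := Nat.ModEq.pow_totient (((Nat.Prime.coprime_iff_not_dvd Fact.out).2 hm).symm)
  rw [Nat.totient_prime Fact.out] at h1
  rw [← Nat.cast_pow, ← Nat.mod_add_div (m ^ (p - 1)) p, h1, Nat.mod_eq_of_lt (Fact.out : p.Prime).one_lt,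
    Nat.cast_add, Nat.cast_mul, hp, zero_mul, add_zero, Nat.cast_one]

variable (x del) in
/-- The Lie derivative along `x_j ∂_j`, componentwise. -/
def L (j : Fin n) (a : Fin n → B) : Fin n → B :=
  fun i => (if i = j then a i else 0) + x j * del j (a i)

theorem Coord.L_closed (h : Coord x del p) (j : Fin n) (a : Fin n → B)
    (ha : ∀ i l, del i (a l) = del l (a i)) :
    L x del j a = fun i => del i (a j * x j) := by
  funext i
  rw [L, Derivation.leibniz, h.del_x, ha i j]
  split_ifs with he
  · subst he; simp
  · simp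

theorem Coord.L_iterate (h : Coord x del p) (j : Fin n) (a : Fin n → B)
    (ha : ∀ i l, del i (a l) = del l (a i)) (m : ℕ) :
    ∃ g, (L x del j)^[m + 1] a = fun i => del i g := by
  induction m with
  | zero => exact ⟨_, h.L_closed j a ha⟩
  | succ m ih =>
    obtain ⟨g, hg⟩ := ih
    rw [Function.iterate_succ_apply', hg]
    exact ⟨_, h.L_closed j _ fun i l => h.comm i l g⟩

variable (x del) in
/-- One component of `L`. -/
def E (j i : Fin n) (b : B) : B := (if i = j then b else 0) + x j * del j b

theorem L_iterate_apply (j i : Fin n) (a : Fin n → B) (m : ℕ) :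
    (L x del j)^[m] a i = (E x del j i)^[m] (a i) := by
  induction m generalizing a with
  | zero => rfl
  | succ m ih => rw [Function.iterate_succ_apply, ih, Function.iterate_succ_apply]; rfl

theorem E_add (j i : Fin n) (m : ℕ) (y z : B) :
    (E x del j i)^[m] (y + z) = (E x del j i)^[m] y + (E x del j i)^[m] z := by
  induction m generalizing y z with
  | zero => rfl
  | succ m ih =>
    rw [Function.iterate_succ_apply, Function.iterate_succ_apply, Function.iterate_succ_apply, ← ih]
    congr 1
    simp only [E, map_add]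
    split_ifs <;> ring

theorem Coord.E_mono (h : Coord x del p) (j i : Fin n) (c : B) (α : Fin n → ℕ) (m : ℕ) :
    (E x del j i)^[m] (c ^ p * ∏ l, x l ^ α l) =
      ((α j + if i = j then 1 else 0 : ℕ) : B) ^ m * (c ^ p * ∏ l, x l ^ α l) := by
  induction m with
  | zero => simp
  | succ m ih =>
    rw [Function.iterate_succ_apply', ih]
    set v := c ^ p * ∏ l, x l ^ α l
    have hv := h.euler j c α
    simp only [E, ← Nat.cast_pow, Derivation.leibniz, Derivation.map_natCast, smul_eq_mul]
    push_cast
    split_ifs
    · linear_combination ((α j : B) + 1) ^ m * hv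
    · simp only [add_zero]; linear_combination (α j : B) ^ m * hv

variable (x del p) in
/-- The projector onto weight zero. -/
def proj (i : Fin n) : List (Fin n) → B → B
  | [], b => b
  | j :: l, b => proj i l b - (E x del j i)^[p - 1] (proj i l b)

theorem proj_add (i : Fin n) (l : List (Fin n)) (y z : B) :
    proj x del p i l (y + z) = proj x del p i l y + proj x del p i l z := by
  induction l with
  | nil => rfl
  | cons j l ih => simp only [proj, ih, E_add]; ring

theorem Coord.proj_exists (h : Coord x del p) (a : Fin n → B)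
    (ha : ∀ i l, del i (a l) = del l (a i)) (l : List (Fin n)) :
    ∃ g, ∀ i, a i = proj x del p i l (a i) + del i g := by
  induction l with
  | nil => exact ⟨0, fun i => by simp [proj]⟩
  | cons j l ih =>
    obtain ⟨g, hg⟩ := ih
    have hb : ∀ i s, del i (proj x del p s l (a s)) = del s (proj x del p i l (a i)) := by
      intro i s
      have e1 : proj x del p s l (a s) = a s - del s g := by linear_combination -hg s
      have e2 : proj x del p i l (a i) = a i - del i g := by linear_combination -hg i
      rw [e1, e2, map_sub, map_sub, ha i s, h.comm i s g]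
    obtain ⟨g', hg'⟩ := h.L_iterate j (fun i => proj x del p i l (a i)) hb (p - 2)
    have h2 : p - 2 + 1 = p - 1 := by have := (Fact.out : p.Prime).two_le; omega
    rw [h2] at hg'
    refine ⟨g + g', fun i => ?_⟩
    have := congrFun hg' i
    rw [L_iterate_apply] at this
    rw [proj, map_add, this]
    linear_combination hg i

theorem Coord.proj_mono (h : Coord x del p) (i : Fin n) (l : List (Fin n)) (c : B) (α : Fin n → ℕ) :
    proj x del p i l (c ^ p * ∏ s, x s ^ α s) =
      if ∀ j ∈ l, p ∣ α j + (if i = j then 1 else 0) then c ^ p * ∏ s, x s ^ α s else 0 := by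
  induction l with
  | nil => simp [proj]
  | cons j l ih =>
    have hp1 : p - 1 ≠ 0 := by have := (Fact.out : p.Prime).two_le; omega
    have hzero : (E x del j i)^[p - 1] 0 = 0 := Function.iterate_fixed (by simp [E]) _
    rw [proj, ih]
    by_cases hl : ∀ s ∈ l, p ∣ α s + (if i = s then 1 else 0)
    · rw [if_pos hl, h.E_mono]
      generalize hk : α j + (if i = j then 1 else 0) = q
      by_cases hj : p ∣ q
      · rw [if_pos (by rw [List.forall_mem_cons, hk]; exact ⟨hj, hl⟩)]
        obtain ⟨r, rfl⟩ := hj
        rw [Nat.cast_mul, h.p_eq, zero_mul, zero_pow hp1, zero_mul, sub_zero]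
      · rw [if_neg fun hh => hj (hk ▸ hh j List.mem_cons_self), natCast_pow_eq_one h.p_eq hj,
          one_mul, sub_self]
    · rw [if_neg hl, if_neg fun hh => hl fun s hs => hh s (List.mem_cons_of_mem _ hs), hzero, sub_zero]

theorem Coord.surj (h : Coord x del p) (a : Fin n → B)
    (ha : ∀ i l, del i (a l) = del l (a i)) :
    ∃ (c : Fin n → B) (g : B), ∀ i, a i = c i ^ p * x i ^ (p - 1) + del i g := by
  obtain ⟨g, hg⟩ := h.proj_exists a ha (List.finRange n)
  have hadd : ∀ y z : B, (y + z) ^ p = y ^ p + z ^ p := fun y z =>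
    Groth.Agent.Lib.RelFrobEtale.add_pow_p p y z h.p_eq
  have key : ∀ i b, ∃ c : B, proj x del p i (List.finRange n) b = c ^ p * x i ^ (p - 1) := by
    intro i b
    refine AddSubgroup.closure_induction
      (p := fun y _ => ∃ c : B, proj x del p i (List.finRange n) y = c ^ p * x i ^ (p - 1))
      ?_ ?_ ?_ ?_ (h.spanning b)
    · rintro _ ⟨⟨c, α⟩, rfl⟩
      show ∃ c' : B, proj x del p i _ (c ^ p * ∏ s, x s ^ α s) = _
      rw [h.proj_mono]
      by_cases hh : ∀ j ∈ List.finRange n, p ∣ α j + (if i = j then 1 else 0)
      · rw [if_pos hh]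
        refine ⟨c * ∏ s, x s ^ (α s / p), ?_⟩
        rw [mul_pow, mul_assoc, ← Finset.prod_pow]
        congr 1
        rw [← Finset.prod_erase_mul _ _ (Finset.mem_univ i),
          ← Finset.prod_erase_mul _ (fun s => (x s ^ (α s / p)) ^ p) (Finset.mem_univ i), mul_assoc]
        congr 1
        · refine Finset.prod_congr rfl fun s hs => ?_
          have h1 := hh s (List.mem_finRange s)
          rw [if_neg (fun e => (Finset.mem_erase.1 hs).1 e.symm), add_zero] at h1
          rw [← pow_mul, Nat.div_mul_cancel h1]
        · have h1 := hh i (List.mem_finRange i)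
          rw [if_pos rfl] at h1
          obtain ⟨q, hq⟩ := h1
          have hp1 := (Fact.out : p.Prime).two_le
          rw [← pow_mul, ← pow_add]
          congr 1
          cases q with
          | zero => omega
          | succ q =>
            rw [Nat.mul_succ] at hq
            have e : α i = p * q + (p - 1) := by omega
            rw [e, Nat.mul_add_div (by omega), Nat.div_eq_of_lt (show p - 1 < p by omega), add_zero,
              mul_comm q p]
      · rw [if_neg hh]
        exact ⟨0, by rw [zero_pow (Fact.out : p.Prime).ne_zero, zero_mul]⟩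
    · refine ⟨0, ?_⟩
      have := proj_add (x := x) (del := del) (p := p) i (List.finRange n) 0 0
      rw [add_zero] at this
      rw [zero_pow (Fact.out : p.Prime).ne_zero, zero_mul]
      exact left_eq_add.1 this
    · rintro y z _ _ ⟨c, hc⟩ ⟨c', hc'⟩
      exact ⟨c + c', by rw [proj_add, hc, hc', hadd]; ring⟩
    · rintro y _ ⟨c, hc⟩
      refine ⟨-c, ?_⟩
      have := proj_add (x := x) (del := del) (p := p) i (List.finRange n) y (-y)
      have hz := proj_add (x := x) (del := del) (p := p) i (List.finRange n) 0 0
      rw [add_zero] at hz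
      rw [add_neg_cancel, left_eq_add.1 hz] at this
      have hn : (-c) ^ p = -(c ^ p) := eq_neg_of_add_eq_zero_left (by
        rw [← hadd, neg_add_cancel, zero_pow (Fact.out : p.Prime).ne_zero])
      rw [hn]
      linear_combination -this - hc
  choose c hc using fun i => key i (a i)
  exact ⟨c, g, fun i => by rw [← hc i]; exact hg i⟩

theorem Coord.inj (h : Coord x del p) (hred : ∀ c : B, c ^ p = 0 → c = 0) (c : Fin n → B) (g : B)
    (he : ∀ i, c i ^ p * x i ^ (p - 1) = del i g) (i : Fin n) : c i = 0 := by
  apply hred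
  have h1 : p - 1 + 1 = p := by have := (Fact.out : p.Prime).two_le; omega
  have h2 : (del i)^[p - 1] (c i ^ p * x i ^ (p - 1)) = 0 := by
    rw [he, ← Function.iterate_succ_apply, show (p - 1).succ = p from h1, h.iterate_p]
  rw [iterate_mul i (h.del_pow i _), h.iterate_pow, Nat.descFactorial_self, Nat.sub_self, pow_zero,
    mul_one] at h2
  have hnd : ¬ p ∣ (p - 1).factorial := fun hd => by
    have := (Fact.out : p.Prime).dvd_factorial.1 hd
    omega
  have h3 := natCast_pow_eq_one (B := B) h.p_eq hnd
  have h4 : c i ^ p * ((p - 1).factorial : B) ^ (p - 2 + 1) = 0 := by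
    rw [pow_succ', ← mul_assoc, h2, zero_mul]
  rwa [show p - 2 + 1 = p - 1 by have := (Fact.out : p.Prime).two_le; omega, h3, mul_one] at h4

end Groth.Agent.Lib.CartierOne45
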