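import Groth.Agent.Lib.CartierOne45.Basic
import Groth.Agent.Lib.CartierOne45.Chart
import Groth.Prelude.Def_DeRham
import Mathlib.RingTheory.Kaehler.Polynomial
import Mathlib.RingTheory.Etale.Kaehler
import Mathlib.RingTheory.Smooth.StandardSmoothOfFree
import Mathlib.RingTheory.RingHom.StandardSmooth
import Mathlib.FieldTheory.Perfect
import Mathlib.RingTheory.Nilpotent.Basic
import Mathlib.RingTheory.Derivation.Lie

/-!
# The Cartier operator in degree one
-/

universe u

noncomputable section

namespace Groth.Agent.Lib.CartierOne45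

open KaehlerDifferential TensorProduct

variable (p : ℕ) [hp : Fact p.Prime] {A B : Type u} [CommRing A] [CharP A p] [CommRing B] [Algebra A B]

/-- The alternating map of a pair of functionals. -/
def alt2 {M N : Type*} [AddCommGroup M] [Module B M] [CommRing N] [Algebra B N]
    (φ ψ : M →ₗ[B] N) : M [⋀^Fin 2]→ₗ[B] N where
  toFun v := φ (v 0) * ψ (v 1) - φ (v 1) * ψ (v 0)
  map_update_add' v i x y := by
    fin_cases i <;> simp [Function.update_of_ne] <;> ring
  map_update_smul' v i c x := by
    fin_cases i <;> simp [Function.update_of_ne, smul_sub]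
  map_eq_zero_of_eq' v i j h hij := by
    fin_cases i <;> fin_cases j <;> simp_all <;> simp [mul_comm]

variable {d : ∀ q : ℕ, ↥(⋀[B]^q (Ω[B⁄A])) →ₗ[A] ↥(⋀[B]^(q + 1) (Ω[B⁄A]))}

/-- `ω` is a closed form. -/
def Closed (d : ∀ q : ℕ, ↥(⋀[B]^q (Ω[B⁄A])) →ₗ[A] ↥(⋀[B]^(q + 1) (Ω[B⁄A]))) (ω : Ω[B⁄A]) : Prop :=
  d 1 ((exteriorPower.oneEquiv B (Ω[B⁄A])).symm ω) = 0

variable (hd : DeRham.IsDiff (D A B) d)

include hd in
theorem d_one_smul_D (f g : B) :
    d 1 ((exteriorPower.oneEquiv B (Ω[B⁄A])).symm (f • D A B g)) =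
      exteriorPower.ιMulti B 2 ![D A B f, D A B g] := by
  have e : (exteriorPower.oneEquiv B (Ω[B⁄A])).symm (f • D A B g) =
      DeRham.gen (D A B) 1 f ![g] := by
    rw [LinearEquiv.symm_apply_eq, DeRham.gen, map_smul, exteriorPower.oneEquiv_ιMulti]
    rfl
  rw [e, hd.1 1 f ![g]]
  congr 1
  ext i; fin_cases i <;> rfl

include hd in
theorem closed_add {a b : Ω[B⁄A]} (ha : Closed d a) (hb : Closed d b) : Closed d (a + b) := by
  simp only [Closed] at ha hb ⊢
  rw [map_add, map_add, ha, hb, add_zero]

include hd in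
theorem d_pow_smul (f : B) (ω : Ω[B⁄A]) :
    d 1 ((exteriorPower.oneEquiv B (Ω[B⁄A])).symm (f ^ p • ω)) =
      f ^ p • d 1 ((exteriorPower.oneEquiv B (Ω[B⁄A])).symm ω) := by
  induction ω using induction_smul_D with
  | zero => simp
  | smul b g =>
    rw [smul_smul, d_one_smul_D hd, d_one_smul_D hd, Derivation.leibniz, D_pow_p p A B, smul_zero,
      add_zero]
    have h := (exteriorPower.ιMulti B 2).map_smul_univ ![f ^ p, 1] ![D A B b, D A B g]
    simp only [Fin.prod_univ_two, Matrix.cons_val_zero, Matrix.cons_val_one, mul_one] at h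
    rw [← h]
    congr 1
    ext i; fin_cases i <;> simp
  | add a b ha hb => simp only [smul_add, map_add, ha, hb]

include hd in
theorem closed_pow_smul {ω : Ω[B⁄A]} (h : Closed d ω) (f : B) : Closed d (f ^ p • ω) := by
  rw [Closed, d_pow_smul p hd, show d 1 _ = 0 from h, smul_zero]

include hd in
theorem closed_pow_sub_one (g : B) : Closed d (g ^ (p - 1) • D A B g) := by
  rw [Closed, d_one_smul_D hd, Derivation.leibniz_pow, ← Nat.cast_smul_eq_nsmul B, smul_smul]
  have h := (exteriorPower.ιMulti B 2).map_smul_univ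
    ![((p - 1 : ℕ) : B) * g ^ (p - 1 - 1), 1] ![D A B g, D A B g]
  rw [(exteriorPower.ιMulti B 2).map_eq_zero_of_eq ![D A B g, D A B g] (i := 0) (j := 1) rfl
    (by decide), smul_zero] at h
  rw [← h]
  congr 1
  ext i; fin_cases i <;> simp

include hd in
theorem closed_D (g : B) : Closed d (D A B g) := by
  have := d_one_smul_D hd 1 g
  rw [one_smul] at this
  rw [Closed, this, Derivation.map_one_eq_zero]
  exact (exteriorPower.ιMulti B 2).map_coord_zero (0 : Fin 2) rfl

include hd in
/-- Coordinates of closed forms are symmetric. -/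
theorem closed_symm {C : Type u} [CommRing C] [Algebra A C] [Algebra B C] [IsScalarTower A B C]
    {ι : Type*} (del : ι → Derivation A C C) (comm : ∀ i j b, del i (del j b) = del j (del i b))
    {ω : Ω[B⁄A]} (hω : Closed d ω) :
    ∀ i j, del i (((del j).compAlgebraMap B).liftKaehlerDifferential ω) =
      del j (((del i).compAlgebraMap B).liftKaehlerDifferential ω) := by
  intro i j
  let φ : ι → (Ω[B⁄A] →ₗ[B] C) := fun s => ((del s).compAlgebraMap B).liftKaehlerDifferential
  let Φ := exteriorPower.alternatingMapLinearEquiv (alt2 (φ i) (φ j))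
  have key : ∀ w : Ω[B⁄A], Φ (d 1 ((exteriorPower.oneEquiv B (Ω[B⁄A])).symm w)) =
      del i (φ j w) - del j (φ i w) := by
    intro w
    induction w using induction_smul_D with
    | zero => simp
    | smul f g =>
      rw [d_one_smul_D hd, exteriorPower.alternatingMapLinearEquiv_apply_ιMulti]
      simp only [alt2, φ, AlternatingMap.coe_mk, MultilinearMap.coe_mk, Matrix.cons_val_zero,
        Matrix.cons_val_one, map_smul, Derivation.liftKaehlerDifferential_comp_D,
        Derivation.compAlgebraMap_apply, Algebra.smul_def, Derivation.leibniz, smul_eq_mul,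
        comm i j (algebraMap B C g), Algebra.algebraMap_self_apply]
      ring
    | add a b ha hb => simp only [map_add, ha, hb]; ring
  have := key ω
  rw [show d 1 _ = 0 from hω, map_zero] at this
  exact sub_eq_zero.1 this.symm

/-- A coordinate system on an algebra étale over affine space. -/
theorem exists_coord {C : Type u} [CommRing C] [Algebra A C] [PerfectRing A p]
    (hC : Algebra.IsStandardSmooth A C) :
    ∃ (n : ℕ) (x : Fin n → C) (del : Fin n → Derivation A C C),
      Coord x del p ∧ (∀ c : C, c ^ p = 0 → c = 0) ∧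
        ∀ ω : Ω[C⁄A], ω = ∑ i, (del i).liftKaehlerDifferential ω • D A C (x i) := by
  have hC' : (algebraMap A C).IsStandardSmooth := RingHom.isStandardSmooth_algebraMap.2 hC
  obtain ⟨n, g, hg, het⟩ := hC'.exists_etale_mvPolynomial
  let P := MvPolynomial (Fin n) A
  algebraize [g]
  haveI : IsScalarTower A P C := IsScalarTower.of_algebraMap_eq fun a => (RingHom.congr_fun hg a).symm
  let x : Fin n → C := fun i => algebraMap P C (MvPolynomial.X i)
  let bas : Module.Basis (Fin n) C (Ω[C⁄A]) :=
    ((mvPolynomialBasis A (Fin n)).baseChange C).map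
      (tensorKaehlerEquivOfFormallyEtale A P C)
  have hbas : ∀ i, bas i = D A C (x i) := fun i => by
    show tensorKaehlerEquivOfFormallyEtale A P C ((mvPolynomialBasis A (Fin n)).baseChange C i) = _
    rw [Module.Basis.baseChange_apply, mvPolynomialBasis_apply,
      tensorKaehlerEquivOfFormallyEtale_apply, mapBaseChange_tmul, one_smul, map_D]
  let del : Fin n → Derivation A C C := fun i => (bas.coord i).compDer (D A C)
  have hlift : ∀ i, (del i).liftKaehlerDifferential = bas.coord i := fun i =>
    Derivation.liftKaehlerDifferential_unique _ _ (by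
      ext c; exact Derivation.liftKaehlerDifferential_comp_D (del i) c)
  have hx : ∀ i j, del i (x j) = if i = j then 1 else 0 := fun i j => by
    show bas.coord i (D A C (x j)) = _
    rw [← hbas, Module.Basis.coord_apply, bas.repr_self, Finsupp.single_apply]
    split_ifs with h1 h2 <;> simp_all
  have hzero : ∀ δ : Derivation A C C, (∀ i, δ (x i) = 0) → δ = 0 := fun δ hδ => by
    have : δ.liftKaehlerDifferential = 0 := bas.ext fun i => by
      rw [hbas, Derivation.liftKaehlerDifferential_comp_D, hδ, LinearMap.zero_apply]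
    ext c
    rw [← δ.liftKaehlerDifferential_comp_D c, this]
    rfl
  have hcomm : ∀ i j b, del i (del j b) = del j (del i b) := by
    intro i j b
    have h := Derivation.congr_fun (hzero ⁅del i, del j⁆ fun s => by
      rw [Derivation.commutator_apply, hx, hx]
      split_ifs <;> simp) b
    rw [Derivation.commutator_apply] at h
    exact sub_eq_zero.1 h
  have hp0 : (p : C) = 0 := p_eq_zero p A C
  haveI : CharP P p := inferInstance
  have hadd : ∀ b : C, b ∈ AddSubgroup.closure
      (Set.range fun cα : C × (Fin n → ℕ) => cα.1 ^ p * ∏ j, x j ^ cα.2 j) := by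
    rcases subsingleton_or_nontrivial C with hC0 | hC0
    · intro b; rw [Subsingleton.elim b 0]; exact zero_mem _
    haveI : CharP C p := (CharP.charP_iff_prime_eq_zero hp.out).2 hp0
    intro b
    obtain ⟨z, rfl⟩ := (RelFrobEtale.bijective_of_etale p (A := P) (B := C)).2 b
    induction z using TensorProduct.induction_on with
    | zero => rw [map_zero]; exact zero_mem _
    | add a b ha hb => rw [map_add]; exact add_mem ha hb
    | tmul c q =>
      rw [RelFrobEtale.relFrob_tmul]
      generalize (FrobAlg.toTwist p P).symm q = Q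
      induction Q using MvPolynomial.induction_on' with
      | monomial m a =>
        refine AddSubgroup.subset_closure ⟨(c * algebraMap A C ((frobeniusEquiv A p).symm a), fun j => m j), ?_⟩
        show (c * _) ^ p * _ = _
        rw [MvPolynomial.monomial_eq, Finsupp.prod_fintype _ _ (fun _ => pow_zero _), map_mul,
          map_prod, mul_pow, ← map_pow, frobeniusEquiv_symm_pow_p,
          show algebraMap P C (MvPolynomial.C a) = algebraMap A C a from RingHom.congr_fun hg a,
          mul_assoc]
        simp only [map_pow, x]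
      | add a b ha hb => rw [map_add, mul_add]; exact add_mem ha hb
  refine ⟨n, x, del, ⟨hp0, hx, hcomm, hadd⟩, ?_, fun ω => ?_⟩
  · rcases subsingleton_or_nontrivial C with hC0 | hC0
    · intro c _; exact Subsingleton.elim _ _
    haveI : CharP C p := (CharP.charP_iff_prime_eq_zero hp.out).2 hp0
    intro c hc
    haveI : IsReduced A := ⟨fun z ⟨m, hm⟩ => (iterateFrobeniusEquiv A p m).injective (by
      rw [map_zero, iterateFrobeniusEquiv_def]
      exact pow_eq_zero_of_le (Nat.lt_pow_self hp.out.one_lt).le hm)⟩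
    have hz : (c ⊗ₜ[P] (1 : FrobAlg.Twist p P) : FrobAlg.BaseChange p P C) = 0 :=
      (RelFrobEtale.bijective_of_etale p (A := P) (B := C)).1 (by
        rw [RelFrobEtale.relFrob_tmul, hc, zero_mul, map_zero])
    have hinj : Function.Injective (Algebra.linearMap P (FrobAlg.Twist p P)) := by
      rw [injective_iff_map_eq_zero]
      intro a ha
      have h0 : a ^ p = 0 := ha
      exact eq_zero_of_pow_eq_zero h0
    have := Module.Flat.lTensor_preserves_injective_linearMap (M := C) _ hinj
      (a₁ := c ⊗ₜ (1 : P)) (a₂ := 0) (by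
        rw [map_zero, LinearMap.lTensor_tmul, Algebra.linearMap_apply, map_one]
        exact hz)
    simpa using congrArg (TensorProduct.rid P C) this
  · simp only [hlift, ← hbas]
    exact (bas.sum_repr ω).symm

variable [PerfectRing A p] [Algebra.Smooth A B]

theorem cl_naturality {C : Type u} [CommRing C] [Algebra A C] [Algebra B C] [IsScalarTower A B C]
    (η : Ω[B⁄A]) : ∃ ω, cl p A B ω = T p A B η ∧
      cl p A C (map A A B C ω) = T p A C (map A A B C η) := by
  induction η using induction_smul_D with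
  | zero => exact ⟨0, by simp, by simp⟩
  | smul f g =>
    refine ⟨(f ^ p * g ^ (p - 1)) • D A B g, (T_smul_D p A B f g).symm, ?_⟩
    have hm : ∀ b c : B, map A A B C (b • D A B c) = algebraMap B C b • D A C (algebraMap B C c) :=
      fun b c => by rw [LinearMap.map_smul (map A A B C), map_D, algebraMap_smul]
    rw [hm, hm, T_smul_D]
    simp only [map_mul, map_pow]
  | add a b ha hb =>
    obtain ⟨w, hw, hw'⟩ := ha
    obtain ⟨w', hv, hv'⟩ := hb
    exact ⟨w + w', by simp [hw, hv], by simp [hw', hv']⟩

theorem T_injective : Function.Injective (T p A B) := by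
  rw [injective_iff_map_eq_zero]
  intro η hη
  obtain ⟨s, hs, hst⟩ := Algebra.Smooth.exists_span_eq_top_isStandardSmooth A B
  refine (Submodule.mem_bot B).1 (Submodule.mem_of_span_eq_top_of_smul_pow_mem ⊥ s hs η fun r => ?_)
  let C := Localization.Away (r : B)
  obtain ⟨n, x, del, hco, hred, hexp⟩ := exists_coord p (hst r r.2)
  let a := map A A B C η
  obtain ⟨ω, hω, hω'⟩ := cl_naturality p (C := C) η
  rw [hη, cl_eq_zero] at hω
  obtain ⟨g, rfl⟩ := hω
  rw [map_D, cl_D] at hω'
  have hsum : T p A C a = cl p A C (∑ i, ((del i).liftKaehlerDifferential a ^ p * x i ^ (p - 1)) • D A C (x i)) := by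
    conv_lhs => rw [hexp a]
    rw [map_sum, map_sum]
    exact Finset.sum_congr rfl fun i _ => T_smul_D p A C _ _
  rw [hsum, eq_comm, cl_eq_zero] at hω'
  obtain ⟨h, hh⟩ := hω'
  have hzero : ∀ i, (del i).liftKaehlerDifferential a = 0 := hco.inj hred _ h fun i => by
    have := congrArg (del i).liftKaehlerDifferential hh
    rw [Derivation.liftKaehlerDifferential_comp_D, map_sum, Finset.sum_eq_single i] at this
    · rw [this, map_smul, Derivation.liftKaehlerDifferential_comp_D, hco.del_x, if_pos rfl,
        smul_eq_mul, mul_one]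
    · intro j _ hj
      rw [map_smul, Derivation.liftKaehlerDifferential_comp_D, hco.del_x, if_neg (Ne.symm hj), smul_zero]
    · simp
  have ha : a = 0 := by rw [hexp a]; simp [hzero]
  obtain ⟨⟨_, m, rfl⟩, hm⟩ := (IsLocalizedModule.eq_zero_iff (Submonoid.powers (r : B))
    (map A A B C)).1 ha
  exact ⟨m, (Submodule.mem_bot B).2 hm⟩

include hd in
theorem closed_mem_range {ω : Ω[B⁄A]} (hω : Closed d ω) : cl p A B ω ∈ LinearMap.range (T p A B) := by
  obtain ⟨s, hs, hst⟩ := Algebra.Smooth.exists_span_eq_top_isStandardSmooth A B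
  refine Submodule.mem_of_span_eq_top_of_smul_pow_mem _ s hs _ fun r => ?_
  let C := Localization.Away (r : B)
  obtain ⟨n, x, del, hco, hred, hexp⟩ := exists_coord p (hst r r.2)
  let a : Fin n → C := fun i => (del i).liftKaehlerDifferential (map A A B C ω)
  have ha : ∀ i, ((del i).compAlgebraMap B).liftKaehlerDifferential ω = a i := by
    intro i
    exact LinearMap.congr_fun (Derivation.liftKaehlerDifferential_unique
      ((del i).compAlgebraMap B).liftKaehlerDifferential
      (((del i).liftKaehlerDifferential.restrictScalars B).comp (map A A B C)) (by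
        ext c
        simp [Derivation.liftKaehlerDifferential_comp_D]
        exact ((del i).liftKaehlerDifferential_comp_D _).symm)) ω
  obtain ⟨c, g, hc⟩ := hco.surj a fun i l => by
    have := closed_symm hd del hco.comm hω i l
    rwa [ha, ha] at this
  let η' : Ω[C⁄A] := ∑ i, c i • D A C (x i)
  have hη' : T p A C η' = cl p A C (map A A B C ω) := by
    have e : map A A B C ω = (∑ i, (c i ^ p * x i ^ (p - 1)) • D A C (x i)) + D A C g := by
      conv_lhs => rw [hexp (map A A B C ω)]
      conv_rhs => rw [hexp (D A C g)]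
      rw [← Finset.sum_add_distrib]
      refine Finset.sum_congr rfl fun i _ => ?_
      rw [← add_smul, Derivation.liftKaehlerDifferential_comp_D, ← hc i]
    rw [e, map_add, cl_D, add_zero]
    simp only [η', map_sum]
    exact Finset.sum_congr rfl fun i _ => T_smul_D p A C _ _
  obtain ⟨⟨η, ⟨_, N, rfl⟩⟩, hN⟩ := IsLocalizedModule.surj (Submonoid.powers (r : B)) (map A A B C) η'
  obtain ⟨w, hw, hw'⟩ := cl_naturality p (C := C) η
  dsimp only at hN
  have e1 : cl p A C (map A A B C (((r : B) ^ N) ^ p • ω - w)) = 0 := by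
    rw [map_sub, map_sub, hw', ← hN]
    show _ - T p A C ((r : B) ^ N • η') = 0
    rw [map_smul (map A A B C), ← algebraMap_smul C ((r : B) ^ N) η', map_smul (T p A C), hη',
      ← algebraMap_smul C (((r : B) ^ N) ^ p), map_pow, map_pow, smul_cl, sub_self]
  obtain ⟨h', hh'⟩ := (cl_eq_zero p A C).1 e1
  obtain ⟨⟨h, ⟨_, M, rfl⟩⟩, hM⟩ := IsLocalization.surj (Submonoid.powers (r : B)) h'
  dsimp only at hM
  -- clear denominators
  have e2 : map A A B C (((r : B) ^ M) ^ p • (((r : B) ^ N) ^ p • ω - w)) =
      map A A B C (D A B ((((r : B) ^ M) ^ (p - 1)) * h)) := by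
    have hz : D A C (algebraMap B C ((r : B) ^ M) ^ p) = 0 := D_pow_p p A C _
    have hpow : ((r : B) ^ M) ^ p = ((r : B) ^ M) ^ (p - 1) * (r : B) ^ M := by
      rw [← pow_succ, Nat.sub_add_cancel hp.out.one_le]
    rw [map_smul, ← hh', map_D, map_mul, ← hM]
    have : algebraMap B C (((r : B) ^ M) ^ (p - 1)) * (h' * algebraMap B C ((r : B) ^ M)) =
        algebraMap B C ((r : B) ^ M) ^ p * h' := by
      rw [← map_pow, hpow, map_mul]; ring
    rw [this, Derivation.leibniz, hz, smul_zero, add_zero, ← algebraMap_smul C, map_pow]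
  obtain ⟨⟨_, K, rfl⟩, hK⟩ := (IsLocalizedModule.eq_iff_exists (Submonoid.powers (r : B))
    (map A A B C)).1 e2
  refine ⟨K + M + N, (r : B) ^ (K + M) • η, ?_⟩
  have hK' : ((r : B) ^ K) ^ p • (((r : B) ^ M) ^ p • (((r : B) ^ N) ^ p • ω - w)) =
      ((r : B) ^ K) ^ p • D A B ((((r : B) ^ M) ^ (p - 1)) * h) := by
    have hpowK : ((r : B) ^ K) ^ p = ((r : B) ^ K) ^ (p - 1) * (r : B) ^ K := by
      rw [← pow_succ, Nat.sub_add_cancel hp.out.one_le]
    simp only [Submonoid.smul_def] at hK
    rw [hpowK, mul_smul, hK, smul_smul]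
  have hexact : cl p A B (((r : B) ^ K) ^ p • D A B ((((r : B) ^ M) ^ (p - 1)) * h)) = 0 := by
    rw [← smul_cl, cl_D, smul_zero]
  rw [← hK', ← smul_cl, ← smul_cl, map_sub, ← smul_cl, smul_smul, smul_sub, smul_smul, sub_eq_zero,
    hw] at hexact
  rw [map_smul, pow_add, pow_add, ← hexact, ← pow_add]

include hd in
theorem exists_closed_repr (C' : {ω : Ω[B⁄A] // Closed d ω} → Ω[B⁄A])
    (hadd : ∀ a b, C' ⟨a.1 + b.1, closed_add hd a.2 b.2⟩ = C' a + C' b)
    (hsmul : ∀ (f : B) a, C' ⟨f ^ p • a.1, closed_pow_smul p hd a.2 f⟩ = f • C' a)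
    (hgen : ∀ g, C' ⟨_, closed_pow_sub_one p hd g⟩ = D A B g) (η : Ω[B⁄A]) :
    ∃ a, cl p A B a.1 = T p A B η ∧ C' a = η := by
  induction η using induction_smul_D with
  | zero =>
    refine ⟨⟨0, by simp [Closed]⟩, by simp, ?_⟩
    have h := hadd ⟨0, by simp [Closed]⟩ ⟨0, by simp [Closed]⟩
    simp only [add_zero] at h
    exact left_eq_add.1 h
  | smul f g =>
    refine ⟨⟨_, closed_pow_smul p hd (closed_pow_sub_one p hd g) f⟩, ?_, ?_⟩
    · show cl p A B (f ^ p • g ^ (p - 1) • D A B g) = _
      rw [T_smul_D, smul_smul]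
    · rw [hsmul f ⟨_, closed_pow_sub_one p hd g⟩, hgen]
  | add y z hy hz =>
    obtain ⟨a, ha, ha'⟩ := hy
    obtain ⟨b, hb, hb'⟩ := hz
    exact ⟨⟨a.1 + b.1, closed_add hd a.2 b.2⟩, by simp [ha, hb], by rw [hadd, ha', hb']⟩

end Groth.Agent.Lib.CartierOne45
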